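import Mathlib
import Cfsg.Agent.Lib.J2.Refl

/-!
# The minimal vectors of the icosian Leech lattice: 120 units times 315 representatives
-/

set_option autoImplicit false
set_option maxRecDepth 100000

namespace H74.J2

open Quaternion Cfsg.Spor H54

/-- forces an integer to a literal -/
noncomputable def forceI {α : Type} (x : ℤ) (f : ℤ → α) : α :=
  Int.rec (motive := fun _ => α) (fun n => force n fun n => f (Int.ofNat n))
    (fun n => force n fun n => f (Int.negSucc n)) x

theorem forceI_eq {α : Type} (x : ℤ) (f : ℤ → α) : forceI x f = f x := by cases x <;> rfl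

/-- `∃ i < k, f i` -/
noncomputable def anyLt (f : ℕ → Bool) (k : ℕ) : Bool :=
  Nat.rec (motive := fun _ => Bool) false (fun i ih => bor (f i) ih) k

theorem anyLt_spec (f : ℕ → Bool) (k : ℕ) (h : anyLt f k = true) : ∃ i, i < k ∧ f i = true := by
  induction k with
  | zero => simp [anyLt] at h
  | succ k ih =>
    have : anyLt f (k + 1) = bor (f k) (anyLt f k) := rfl
    rw [this, bor_eq_true] at h
    rcases h with h | h
    · exact ⟨k, by omega, h⟩
    · obtain ⟨i, hi, e⟩ := ih h
      exact ⟨i, by omega, e⟩

theorem inj_of_incr (f : ℕ → ℤ) (n : ℕ) (h : ∀ i, i < n → f i < f (i + 1)) (i j : ℕ)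
    (hi : i < n + 1) (hj : j < n + 1) (e : f i = f j) : i = j := by
  have key : ∀ a d, a + d + 1 < n + 1 → f a < f (a + d + 1) := by
    intro a d
    induction d with
    | zero => intro h1; exact h a (by omega)
    | succ d ih => intro h1; exact lt_trans (ih (by omega)) (h (a + d + 1) (by omega))
  rcases lt_trichotomy i j with l | l | l
  · obtain ⟨d, rfl⟩ := Nat.exists_eq_add_of_lt l
    exact absurd e (key i d hj).ne
  · exact l
  · obtain ⟨d, rfl⟩ := Nat.exists_eq_add_of_lt l
    exact absurd e.symm (key j d hi).ne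

namespace Ico

noncomputable def frc {α : Type} (q : Ico) (f : Ico → α) : α :=
  forceI q.a0 fun a0 => forceI q.b0 fun b0 => forceI q.a1 fun a1 => forceI q.b1 fun b1 =>
  forceI q.a2 fun a2 => forceI q.b2 fun b2 => forceI q.a3 fun a3 => forceI q.b3 fun b3 =>
    f ⟨a0, b0, a1, b1, a2, b2, a3, b3⟩

theorem frc_eq {α : Type} (q : Ico) (f : Ico → α) : frc q f = f q := by
  simp only [frc, forceI_eq]

noncomputable def beq (p q : Ico) : Bool :=
  band (decide (p.a0 = q.a0)) (band (decide (p.b0 = q.b0)) (band (decide (p.a1 = q.a1))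
  (band (decide (p.b1 = q.b1)) (band (decide (p.a2 = q.a2)) (band (decide (p.b2 = q.b2))
  (band (decide (p.a3 = q.a3)) (decide (p.b3 = q.b3))))))))

theorem beq_iff (p q : Ico) : beq p q = true ↔ p = q := by
  cases p; cases q; simp [beq]

noncomputable def parb (q : Ico) : Bool :=
  band (decide ((q.a0 + q.b3 + q.a3 + q.b2) % 2 = 0)) (band (decide ((q.b0 + q.a3 + q.a2 + q.b2) % 2 = 0))
    (band (decide ((q.a1 + q.b3 + q.b2 + q.a2) % 2 = 0)) (decide ((q.b1 + q.a3 + q.b3 + q.a2) % 2 = 0))))

theorem parb_iff (q : Ico) : parb q = true ↔ q.Par := by simp [parb, Par]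

noncomputable def in4 (w : Ico) : Bool := band (beq (sc 4 (dv 4 w)) w) (parb (dv 4 w))

theorem in4_iff (w : Ico) : in4 w = true ↔ ∃ a ∈ icosians, w.phi = 4 * a := by
  rw [in4, band_eq_true, beq_iff, parb_iff]
  constructor
  · rintro ⟨h1, h2⟩
    refine ⟨_, phi_mem h2, ?_⟩
    conv_lhs => rw [← h1, phi_sc]
    simp
  · rintro ⟨a, ha, e⟩
    obtain ⟨q, hq, rfl⟩ := exists_phi ha
    have e2 : w = sc 4 q := phi_inj (by rw [e, phi_sc]; simp)
    have e3 : dv 4 w = q := by
      rw [e2]; cases q
      simp only [dv, sc, Int.mul_def, Ico.mk.injEq]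
      omega
    rw [e3]; exact ⟨e2.symm, hq⟩

noncomputable def inH (c : Ico) : Bool := frc c fun c => frc (mul2 c hb) in4
noncomputable def inHb (c : Ico) : Bool := frc c fun c => frc (mul2 c hh) in4

theorem li_iff {g x : ℍ[ℝ]} (h1 : g * star g = 2) (h2 : star g * g = 2) :
    (∃ a ∈ icosians, 2 * (x * star g) = 4 * a) ↔ x ∈ leftIdeal g := by
  constructor
  · rintro ⟨a, ha, e⟩
    refine ⟨a, ha, ?_⟩
    have e1 : x * star g = 2 * a := by
      apply mul_left_cancel₀ two_ne; rw [e, ← mul_assoc]; norm_num
    have e2 : 2 * x = 2 * (a * g) := by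
      rw [← mul_assoc, ← e1, mul_assoc, h2]; noncomm_ring
    exact mul_left_cancel₀ two_ne e2
  · rintro ⟨a, ha, rfl⟩
    exact ⟨a, ha, by rw [mul_assoc, h1]; noncomm_ring⟩

theorem inH_iff (c : Ico) : inH c = true ↔ c.phi ∈ leftIdeal icoH := by
  rw [inH, frc_eq, frc_eq, in4_iff, phi_mul2, phi_hb, li_iff h_mul_star star_mul_h]

theorem inHb_iff (c : Ico) : inHb c = true ↔ c.phi ∈ leftIdeal (star icoH) := by
  rw [inHb, frc_eq, frc_eq, in4_iff, phi_mul2, phi_hh,
    ← li_iff (g := star icoH) (by rw [star_star, star_mul_h]) (by rw [star_star, h_mul_star]), star_star]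

noncomputable def lamb (x y z : Ico) : Bool :=
  band (inH (sub x y)) (band (inH (sub y z)) (inHb (add (add x y) z)))

theorem lamb_iff (x y z : Ico) : lamb x y z = true ↔ x.phi - y.phi ∈ leftIdeal icoH ∧
    y.phi - z.phi ∈ leftIdeal icoH ∧ x.phi + y.phi + z.phi ∈ leftIdeal (star icoH) := by
  rw [lamb, band_eq_true, band_eq_true, inH_iff, inH_iff, inHb_iff, phi_sub, phi_sub, phi_add, phi_add]

/-- one level of the search for short vectors -/
noncomputable def lp (rem : ℕ) (f : ℤ → ℕ → Bool) : Bool :=
  band (f 0 rem) (band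
    (bimp (Nat.ble 1 rem) (force (Nat.sub rem 1) fun r => band (f 1 r) (f (-1) r)))
    (bimp (Nat.ble 4 rem) (force (Nat.sub rem 4) fun r => band (f 2 r) (f (-2) r))))

theorem lp_spec {rem : ℕ} {f : ℤ → ℕ → Bool} (h : lp rem f = true) (x s : ℤ)
    (hs : 0 ≤ s) (e : x * x + s = rem) (hr : rem ≤ 8) : ∃ r : ℕ, (r : ℤ) = s ∧ r ≤ 8 ∧ f x r = true := by
  simp only [lp, band_eq_true, bimp_eq_true, force_eq, Nat.ble_eq, Nat.sub_eq] at h
  obtain ⟨h0, h1, h2⟩ := h
  have hx : -2 ≤ x := by nlinarith
  have hx' : x ≤ 2 := by nlinarith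
  interval_cases x
  · exact ⟨rem - 4, by omega, by omega, (h2 (by omega)).2⟩
  · exact ⟨rem - 1, by omega, by omega, (h1 (by omega)).2⟩
  · exact ⟨rem, by omega, by omega, h0⟩
  · exact ⟨rem - 1, by omega, by omega, (h1 (by omega)).1⟩
  · exact ⟨rem - 4, by omega, by omega, (h2 (by omega)).1⟩

noncomputable def srch (N : ℕ) (f : Ico → Bool) : Bool :=
  lp N fun a0 r => lp r fun b0 r => lp r fun a1 r => lp r fun b1 r => lp r fun a2 r =>
  lp r fun b2 r => lp r fun a3 r => lp r fun b3 r => bimp (Nat.beq r 0)
    (bimp (parb ⟨a0, b0, a1, b1, a2, b2, a3, b3⟩)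
      (bimp (decide (nB ⟨a0, b0, a1, b1, a2, b2, a3, b3⟩ = 0)) (f ⟨a0, b0, a1, b1, a2, b2, a3, b3⟩)))

theorem srch_spec {N : ℕ} {f : Ico → Bool} (h : srch N f = true) (hN : N ≤ 8) (q : Ico)
    (hp : q.Par) (hA : q.nA = N) (hB : q.nB = 0) : f q = true := by
  obtain ⟨a0, b0, a1, b1, a2, b2, a3, b3⟩ := q
  simp only [nA] at hA
  have s0 := mul_self_nonneg b0
  have s1 := mul_self_nonneg a1
  have s2 := mul_self_nonneg b1
  have s3 := mul_self_nonneg a2
  have s4 := mul_self_nonneg b2
  have s5 := mul_self_nonneg a3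
  have s6 := mul_self_nonneg b3
  obtain ⟨r, e, l, h⟩ := lp_spec h a0
    (b0 * b0 + a1 * a1 + b1 * b1 + a2 * a2 + b2 * b2 + a3 * a3 + b3 * b3) (by linarith) (by linarith) hN
  obtain ⟨r, e, l, h⟩ := lp_spec h b0
    (a1 * a1 + b1 * b1 + a2 * a2 + b2 * b2 + a3 * a3 + b3 * b3) (by linarith) (by linarith) l
  obtain ⟨r, e, l, h⟩ := lp_spec h a1
    (b1 * b1 + a2 * a2 + b2 * b2 + a3 * a3 + b3 * b3) (by linarith) (by linarith) l
  obtain ⟨r, e, l, h⟩ := lp_spec h b1
    (a2 * a2 + b2 * b2 + a3 * a3 + b3 * b3) (by linarith) (by linarith) l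
  obtain ⟨r, e, l, h⟩ := lp_spec h a2 (b2 * b2 + a3 * a3 + b3 * b3) (by linarith) (by linarith) l
  obtain ⟨r, e, l, h⟩ := lp_spec h b2 (a3 * a3 + b3 * b3) (by linarith) (by linarith) l
  obtain ⟨r, e, l, h⟩ := lp_spec h a3 (b3 * b3) (by linarith) (by linarith) l
  obtain ⟨r, e, l, h⟩ := lp_spec h b3 0 le_rfl (by linarith) l
  simp only [bimp_eq_true, Nat.beq_eq, parb_iff, decide_eq_true_eq] at h
  exact h (by omega) hp hB

def dg (n k : ℕ) : ℤ := Int.subNatNat (Nat.land (Nat.shiftRight n k) 15) 8
def dec (n : ℕ) : Ico := ⟨dg n 0, dg n 4, dg n 8, dg n 12, dg n 16, dg n 20, dg n 24, dg n 28⟩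
def eg (x : ℤ) (k : ℕ) : ℕ := Nat.shiftLeft (Int.toNat (Int.add x 8)) k
def enc (q : Ico) : ℕ :=
  eg q.a0 0 + eg q.b0 4 + eg q.a1 8 + eg q.b1 12 + eg q.a2 16 + eg q.b2 20 + eg q.a3 24 + eg q.b3 28
def hsh (q : Ico) : ℤ :=
  ((((((q.a0 * 64 + q.b0) * 64 + q.a1) * 64 + q.b1) * 64 + q.a2) * 64 + q.b2) * 64 + q.a3) * 64 + q.b3

def unitCodes : ℕ := 0x8888888a898989898789898989878989878789899888798978887989887998898897988979988889979888897978888997788889887978898897788998889789788897898989878987898789898787898787878988988979887889798988987987889879988988797889887998878879788788798988787987887879889887798878877979888998978889988889799888877998897988988779889889978898879788988889979888879798798887989788879888888a88987989887879898898978988789789888998798887987988897879888778798879899888978998887987988897879888888a88888a888888868888888886888879897888978978887987788897877888899897888798978889789788877897889879878878798788989787887897878888888688798889789788897888897978888779788979887887798878899788788797887888899778888797787988877897888778889889978878899789889897878898979889889778898897988788977887889789887897878878978898879788788797898989878789898789878987878789879888798778887987887998878897988779988887979888877978888797788887887978878897788798889787788897878989878787898787898787878787878788888886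

def repCodes : ℕ := 0x888888888989896989898969698789898888888a8888888a878969898888888a8888888a896987898888888a8888888a878787698888888a8888888a898989a78888888a8888888a87a789878888888a8888888a8987a7878888888a8888888aa78987878888888a8888888a8888888a78787898797979798888888a9898987897979797888688888888888aa7878789888a88888888888aa787878988888a88a78989898888888a88888688a78989898888888a8888888a79977997989878988888888a9779977978789878888886888888888a87a7878988888a888888888a87a78789888a8888876989898888888a88868888876989898888888a8a88888889a789898888888a8688888889a789898888888a8888888a8888888a89698789888888868888888a896987898888888a79799797789898988888888a97977979987878788888888a698789898888888a88888886698789898888888a8a8888888888888a69898789868888888888888a698987898888888a78987878799797798888888a9878989897797997868888888888888a8787a7898a8888888888888a8787a7898888888a878969898888888a88888886878969898888888a88888a88898769898888888a88888688898769898888888a888a88888888888a8989a789888688888888888a8989a789888a88888989a7898888888a8886888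88989a7898888888a88888a888888888a89876989888886888888888a898769898888888a8888888a87896989888888868888888a878969898a8888888787a7898888888a868888888787a7898888888a8888888a97797997987898988888888a79979779789878788a888888698987898888888a86888888698987898888888a8888888a8888888a69878989888888868888888a698789898888888a98787878979779798888888a78989898797997978888888a896987898888888a88888886896987898888888a8a8888888888888a89a78989868888888888888a89a78989888a88888888888a87698989888688888888888a8769898988888a8887a787898888888a8888868887a787898888888a8888888a78789878977997798888888a989878987997799788888a888888888aa7898989888886888888888aa7898989888a8888a78787898888888a88868888a78787898888888a8888888a79797979787878988888888a979797979898987878787898797979798888888a98989878797979798888888a789878788888888a79979779987898988888888a79979779787898788888888a97799779989878988888888a9779977978989898979779798888888a98787878979779798888888a987878788888888a97977979789898988888888a9797797998987898977997798888888a78789878977997798888888a98789898799797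798888888a78987878799797798888888a787878988888888a79797979989898788888888a797979798888888a8888888a87878769888888868888888a878787698a888888878989698888888a86888888878989698888888a888a8888898789698888888a88868888898789698888888a888886888888888a8989876988888a888888888a8989876988888a88898987698888888a88888688898987698888888a888688888888888a89878969888a88888888888a89878969868888888888888a878989698a8888888888888a878989698888888a878787698888888a88888886878787698888888a797979798888888a78787898979797978888888a7878789897977979789898988888888a79799797789898988888888a79979779987898988888888a97797997987898988888888a799779978888888a98987898977997798888888a9898789897799779989878988888888a79977997989878988888888a977979978888888a98789898799797798888888a98789898797997978888888a78989898979779798888888a7898989879797979787878988888888a97979797787878988888888a888888888789698789898969a789898988888a888888888a8987698988888a888888888a87a7878988888a888888888a8989876988888a888888888a878789a788888a888888888a8969898788888a888888888a8789a78788888a8888888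88a6987878788888a888888888a88888888896987878989896987698989888a88888888888a8989a789888a88888888888aa7878789888a88888888888a89878969888a88888888888a878987a7888a88888888888a69898987888a88888888888a87876987888a88888888888a89a78787888a88888888888a88888888698789878989896989a789898a8888888888888a8787a7898a8888888888888a698987898a8888888888888a878989698a8888888888888a898787a78a8888888888888aa78789878a8888888888888a898969878a8888888888888a876987878a8888888888888a89898969888888888989896987896987888888888989896989698787888888888989896969878987888888888989896989898969898989698888888887896987898989698888888889698787898989698888888869878987898989698888888888888888888888888888888c888888888888888c888888888888888c8888888888888888a7898789898989698888888887a7898989898969888888888987a7898989896988888888878787a78989896988888888a7898789888888888989896987a7898988888888898989698987a7898888888889898969878787a7888888888989896989a78989868888888888888a8787a789868888888888888a69898789868888888888888a87898969868888888888888a898787a7868888888888888aa787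8987868888888888888a89896987868888888888888a87698787868888888888888a88888888a78987898989896987698989888688888888888a8989a789888688888888888aa7878789888688888888888a89878969888688888888888a878987a7888688888888888a69898987888688888888888a87876987888688888888888a89a78787888688888888888a8888888887a7898989898969a7898989888886888888888a89876989888886888888888a87a78789888886888888888a89898769888886888888888a878789a7888886888888888a89698987888886888888888a8789a787888886888888888a69878787888886888888888a888888888987a7898989896979797979989898788888888a97979797989898788888888a979779798888888a98787878797997978888888a98787878799797798888888a78987878977979978888888a7898787897799779787898788888888a79977997787898788888888a977997798888888a78789878799779978888888a7878987879979779789878788888888a97797997789878788888888a97977979987878788888888a79799797987878788888888a979797978888888a98989878797979798888888a989898788888888a898989a78888888a88888886898989a78888888a8a8888888888888a898787a7868888888888888a898787a7888a88888888888a878987a788868888888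8888a878987a788888a88878789a78888888a88888688878789a78888888a88888a888888888a878789a7888886888888888a878789a7888a8888878987a78888888a88868888878987a78888888a8a888888898787a78888888a86888888898787a78888888a888888868888888a898989a78888888a8888888a898989a7989898788888888a97979797787878988888888a9797979798789898977979978888888a78987878977979978888888a98987898799779978888888a78789878799779978888888a789898988888888a79799797987878788888888a7979979778989898797997978888888a98787878797997978888888a989878988888888a79977997787898788888888a79977997987898988888888a97797997789878788888888a9779799778787898979797978888888a98989878979797978888888a8888888a97979797787878988888888a7979797998989878888a8888698989878888888a88868888698989878888888a888886888888888a6987878788888a888888888a698787878888888a98987898977997798888888a787898787997799788888a88896989878888888a88888688896989878888888a888688888888888a89a78787888a88888888888a89a78787868888888888888a876987878a8888888888888a876987878888888a87a789878888888a8888888687a789878888888a8888888a7898989897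9779798888888a9878787879799797888888868888888aa78987878888888a8888888aa78987878a888888a78789878888888a86888888a78789878888888a8888888a79979779987898988888888a97797997789878788a888888898969878888888a86888888898969878888888a888888868888888a8987a7878888888a8888888a8987a787888886888888888a8789a78788888a888888888a8789a787888a8888878769878888888a88868888878769878888888a888688888888888a87876987888a88888888888a8787698788888a888789a7878888888a888886888789a7878888888a8888888a8987a7878888888a888888868987a7878888888a8a8888888888888a89896987868888888888888a898969878888888a98789898799797798888888a7898787897797997868888888888888aa78789878a8888888888888aa78789878888888aa78987878888888a88888886a78987878888888a8888888a97977979789898988888888a7979979798787878888888868888888a87a789878888888a8888888a87a789878a888888876987878888888a86888888876987878888888a888a888889a787878888888a8886888889a787878888888a88888a888888888a89698987888886888888888a896989878888888a97799779989878988888888a799779977878987888888a88698787878888888a88888688698787878888888a888a88888888888a69898987888688888888888a698989878888888a98989878797979798888888a787878989797979769878989888888868888888a87896989888888868888888a89698789888888868888888a87878769888888868888888a898989a7888888868888888a87a78987888888868888888a8987a787888888868888888aa7898787888888868888888a88888888878787a789898969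

/-- code of the `i`-th unit -/
def uc (i : ℕ) : ℕ := Nat.land (Nat.shiftRight unitCodes (Nat.mul 32 i)) 4294967295
/-- the `i`-th unit -/
def ut (i : ℕ) : Ico := dec (uc i)
/-- code of the `i`-th representative -/
def rc (i : ℕ) : ℕ := Nat.land (Nat.shiftRight repCodes (Nat.mul 96 i)) 79228162514264337593543950335
def rx (i : ℕ) : Ico := dec (rc i)
def ry (i : ℕ) : Ico := dec (Nat.shiftRight (rc i) 32)
def rz (i : ℕ) : Ico := dec (Nat.shiftRight (rc i) 64)

noncomputable def inU (q : Ico) : Bool :=
  force (enc q) fun k => anyLt (fun i => band (Nat.beq (uc i) k) (beq q (ut i))) 120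

theorem inU_spec {q : Ico} (h : inU q = true) : ∃ i, i < 120 ∧ q = ut i := by
  rw [inU, force_eq] at h
  obtain ⟨i, hi, e⟩ := anyLt_spec _ _ h
  rw [band_eq_true, beq_iff] at e
  exact ⟨i, hi, e.2⟩

noncomputable def inT (x y z : Ico) : Bool :=
  force (enc x + Nat.shiftLeft (enc y) 32 + Nat.shiftLeft (enc z) 64) fun k =>
    anyLt (fun i => band (Nat.beq (rc i) k)
      (band (beq x (rx i)) (band (beq y (ry i)) (beq z (rz i))))) 315

theorem inT_spec {x y z : Ico} (h : inT x y z = true) :
    ∃ i, i < 315 ∧ x = rx i ∧ y = ry i ∧ z = rz i := by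
  rw [inT, force_eq] at h
  obtain ⟨i, hi, e⟩ := anyLt_spec _ _ h
  simp only [band_eq_true, beq_iff] at e
  exact ⟨i, hi, e.2⟩

theorem chk_units : srch 4 inU = true := by decide +kernel

theorem chk_units2 : allLt (fun i => frc (ut i) fun u =>
    band (parb u) (band (decide (nA u = 4)) (decide (nB u = 0)))) 120 = true := by decide +kernel

theorem chk_units3 : allLt (fun i => decide (hsh (ut i) < hsh (ut (i + 1)))) 119 = true := by
  decide +kernel

noncomputable def chkA (c : Ico) : Bool :=
  bimp (lamb hh c zero) (band (inT hh c zero) (band (inT hh zero c) (inT zero hh c)))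

noncomputable def chkB (c : Ico) : Bool :=
  bimp (inH (sub c one)) (allLt (fun k => frc (ut k) fun v =>
    bimp (inH (sub one v)) (bimp (inHb (add (add c one) v))
      (band (inT c one v) (band (inT one c v) (inT one v c))))) 120)

noncomputable def chkC (u : Ico) : Bool :=
  frc (tmul u) fun y => bimp (inH (sub one y)) (allLt (fun k => frc (ut k) fun v =>
    frc (sub v (tmul v)) fun z => bimp (inH (sub y z)) (bimp (inHb (add (add one y) z))
      (band (inT one y z) (band (inT one z y) (band (inT y one z) (band (inT z one y)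
        (band (inT y z one) (inT z y one)))))))) 120)

theorem chk_two : srch 8 (fun c => band (chkA c) (chkB c)) = true := by decide +kernel

theorem chk_tau : allLt (fun i => chkC (ut i)) 120 = true := by decide +kernel

theorem chk_four : band (inT two zero zero) (band (inT zero two zero) (inT zero zero two)) = true := by
  decide +kernel

theorem chk_rep : allLt (fun i => frc (rx i) fun x => frc (ry i) fun y => frc (rz i) fun z =>
    band (band (parb x) (band (parb y) (parb z))) (band (lamb x y z)
      (band (decide (nA x + nA y + nA z = 16)) (decide (nB x + nB y + nB z = 0))))) 315 = true := by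
  decide +kernel

/-- an invariant of the reflection in a vector -/
noncomputable def key (x y z : Ico) : ℤ :=
  frc x fun x => frc y fun y => frc z fun z =>
  ((hsh (mul2 (cj x) y) * 1125899906842624 + hsh (mul2 (cj x) z)) * 1125899906842624 +
    hsh (mul2 (cj y) z)) * 4096 + nA x * 32 + nA y

theorem chk_key : allLt (fun i => decide (key (rx i) (ry i) (rz i) <
    key (rx (i + 1)) (ry (i + 1)) (rz (i + 1)))) 314 = true := by decide +kernel

end Ico

open Ico

/-- the `i`-th representative minimal vector, `i < 315` -/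
noncomputable def rv (i : ℕ) : V3 := ![(rx i).phi, (ry i).phi, (rz i).phi]

theorem isMin_vec {x y z : Ico} (hx : x.Par) (hy : y.Par) (hz : z.Par) (h : lamb x y z = true)
    (hA : nA x + nA y + nA z = 16) (hB : nB x + nB y + nB z = 0) : IsMin ![x.phi, y.phi, z.phi] := by
  rw [lamb_iff] at h
  refine ⟨⟨fun t => ?_, h⟩, ?_⟩
  · fin_cases t
    exacts [phi_mem hx, phi_mem hy, phi_mem hz]
  · rw [qip_self_eq_four]
    show normSq x.phi + normSq y.phi + normSq z.phi = 4
    rw [normSq_phi, normSq_phi, normSq_phi]
    have e1 : (nA x : ℝ) + nA y + nA z = 16 := by exact_mod_cast hA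
    have e2 : (nB x : ℝ) + nB y + nB z = 0 := by exact_mod_cast hB
    linear_combination e1 / 4 + tau / 4 * e2

theorem rv_min {i : ℕ} (hi : i < 315) : IsMin (rv i) := by
  have h := (allLt_iff _ _).1 chk_rep i hi
  simp only [frc_eq, band_eq_true, parb_iff, decide_eq_true_eq] at h
  exact isMin_vec h.1.1 h.1.2.1 h.1.2.2 h.2.1 h.2.2.1 h.2.2.2

theorem ut_unit {i : ℕ} (hi : i < 120) : (ut i).phi ∈ icosians ∧ normSq (ut i).phi = 1 := by
  have h := (allLt_iff _ _).1 chk_units2 i hi
  simp only [frc_eq, band_eq_true, parb_iff, decide_eq_true_eq] at h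
  refine ⟨phi_mem h.1, ?_⟩
  rw [normSq_phi, h.2.1, h.2.2]; norm_num

theorem ut_inj (i j : ℕ) (hi : i < 120) (hj : j < 120) (e : (ut i).phi = (ut j).phi) : i = j := by
  refine inj_of_incr (fun i => hsh (ut i)) 119 (fun i hi => ?_) i j hi hj (by rw [phi_inj e])
  simpa using (allLt_iff _ _).1 chk_units3 i hi

theorem exists_ut {u : ℍ[ℝ]} (hu : u ∈ icosians) (hn : normSq u = 1) :
    ∃ i, i < 120 ∧ u = (ut i).phi := by
  obtain ⟨q, hq, rfl⟩ := exists_phi hu
  obtain ⟨hA, hB⟩ := nA_of_normSq (q := q) (a := 1) (b := 0) (by simpa using hn)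
  obtain ⟨i, hi, e⟩ := inU_spec (srch_spec chk_units (by norm_num) q hq hA hB)
  exact ⟨i, hi, by rw [e]⟩

theorem chk_two' {c : ℍ[ℝ]} (hc : c ∈ icosians) (hn : normSq c = 2) :
    ∃ q : Ico, c = q.phi ∧ chkA q = true ∧ chkB q = true := by
  obtain ⟨q, hq, rfl⟩ := exists_phi hc
  obtain ⟨hA, hB⟩ := nA_of_normSq (q := q) (a := 2) (b := 0) (by simpa using hn)
  have := srch_spec chk_two (by norm_num) q hq hA hB
  exact ⟨q, rfl, (band_eq_true _ _).1 this⟩

/-- `(x, y, z)` is a unit multiple of a representative -/
def InT (x y z : ℍ[ℝ]) : Prop :=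
  ∃ i, i < 315 ∧ ∃ u ∈ icosians, normSq u = 1 ∧ x = u * (rx i).phi ∧ y = u * (ry i).phi ∧
    z = u * (rz i).phi

theorem InT.of_inT {x y z : Ico} (h : inT x y z = true) : InT x.phi y.phi z.phi := by
  obtain ⟨i, hi, rfl, rfl, rfl⟩ := inT_spec h
  exact ⟨i, hi, 1, one_mem _, by simp, by simp, by simp, by simp⟩

theorem InT.scale {x y z u : ℍ[ℝ]} (hu : u ∈ icosians) (hn : normSq u = 1) (h : InT x y z) :
    InT (u * x) (u * y) (u * z) := by
  obtain ⟨i, hi, v, hv, hvn, rfl, rfl, rfl⟩ := h
  exact ⟨i, hi, u * v, mul_mem hu hv, by rw [map_mul, hn, hvn, one_mul], by rw [mul_assoc],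
    by rw [mul_assoc], by rw [mul_assoc]⟩

/-- the lattice conditions -/
def Lam (x y z : ℍ[ℝ]) : Prop :=
  x ∈ icosians ∧ y ∈ icosians ∧ z ∈ icosians ∧ x - y ∈ leftIdeal icoH ∧ y - z ∈ leftIdeal icoH ∧
    x + y + z ∈ leftIdeal (star icoH)

theorem Lam.swap12 {x y z : ℍ[ℝ]} (h : Lam x y z) : Lam y x z := by
  obtain ⟨a, b, c, d, e, f⟩ := h
  refine ⟨b, a, c, by simpa using li_neg d, by simpa using li_add d e, by rwa [add_comm y x]⟩

theorem Lam.swap23 {x y z : ℍ[ℝ]} (h : Lam x y z) : Lam x z y := by
  obtain ⟨a, b, c, d, e, f⟩ := h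
  refine ⟨a, c, b, by simpa using li_add d e, by simpa using li_neg e, by rwa [add_right_comm]⟩

theorem Lam.scale {x y z u : ℍ[ℝ]} (hu : u ∈ icosians) (h : Lam x y z) :
    Lam (u * x) (u * y) (u * z) := by
  obtain ⟨a, b, c, d, e, f⟩ := h
  refine ⟨mul_mem hu a, mul_mem hu b, mul_mem hu c, ?_, ?_, ?_⟩
  · rw [← mul_sub]; exact li_mul hu d
  · rw [← mul_sub]; exact li_mul hu e
  · rw [← mul_add, ← mul_add]; exact li_mul hu f

theorem unit_cancel {u : ℍ[ℝ]} (hn : normSq u = 1) (x : ℍ[ℝ]) : u * (star u * x) = x := by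
  rw [← mul_assoc, self_mul_star, hn]; simp

theorem normSq_h : normSq icoH = 2 := by
  have := h_mul_star
  rw [self_mul_star] at this
  exact coe_inj.1 this

theorem c400 {x : ℍ[ℝ]} (h : Lam x 0 0) (hn : normSq x = 4) : InT x 0 0 ∧ InT 0 x 0 ∧ InT 0 0 x := by
  obtain ⟨c, hc, rfl⟩ := two_of_both (x := x) (by simpa using h.2.2.2.1) (by simpa using h.2.2.2.2.2)
  have hcn : normSq c = 1 := by
    rw [map_mul, show (2 : ℍ[ℝ]) = ((2 : ℝ) : ℍ[ℝ]) from rfl, normSq_coe] at hn
    linarith
  have h4 := chk_four
  simp only [band_eq_true] at h4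
  have e : 2 * c = c * 2 := by noncomm_ring
  have h1 := (InT.of_inT h4.1).scale hc hcn
  have h2 := (InT.of_inT h4.2.1).scale hc hcn
  have h3 := (InT.of_inT h4.2.2).scale hc hcn
  rw [phi_two, phi_zero, mul_zero, ← e] at h1 h2 h3
  exact ⟨h1, h2, h3⟩

theorem c220 {x y : ℍ[ℝ]} (h : Lam x y 0) (hx : normSq x = 2) (hy : normSq y = 2) :
    InT x y 0 ∧ InT x 0 y ∧ InT 0 x y := by
  obtain ⟨u, hu, rfl⟩ : x ∈ leftIdeal icoH := by simpa using li_add h.2.2.2.1 h.2.2.2.2.1
  have hun : normSq u = 1 := by rw [map_mul, normSq_h] at hx; linarith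
  have h' := h.scale (star_mem hu)
  rw [← mul_assoc, star_mul_self, hun, coe_one, one_mul, mul_zero] at h'
  obtain ⟨q, e, hA, -⟩ := chk_two' h'.2.1 (by rw [map_mul, normSq_star, hun, hy, one_mul])
  rw [e] at h'
  simp only [chkA, bimp_eq_true, band_eq_true, lamb_iff, phi_hh, phi_zero] at hA
  obtain ⟨h1, h2, h3⟩ := hA h'.2.2.2
  have h1 := (InT.of_inT h1).scale hu hun
  have h2 := (InT.of_inT h2).scale hu hun
  have h3 := (InT.of_inT h3).scale hu hun
  rw [phi_hh, phi_zero, mul_zero, ← e, unit_cancel hun] at h1 h2 h3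
  exact ⟨h1, h2, h3⟩

theorem c211 {x y z : ℍ[ℝ]} (h : Lam x y z) (hx : normSq x = 2) (hy : normSq y = 1)
    (hz : normSq z = 1) : InT x y z ∧ InT y x z ∧ InT y z x := by
  have hu := h.2.1
  have h' := h.scale (star_mem hu)
  rw [star_mul_self, hy, coe_one] at h'
  obtain ⟨q, e, -, hB⟩ := chk_two' h'.1 (by rw [map_mul, normSq_star, hx, hy, one_mul])
  obtain ⟨k, hk, e'⟩ := exists_ut h'.2.2.1 (by rw [map_mul, normSq_star, hz, hy, one_mul])
  rw [e, e'] at h'
  simp only [chkB, bimp_eq_true, allLt_iff, frc_eq, band_eq_true, inH_iff, inHb_iff, phi_sub,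
    phi_add, phi_one] at hB
  obtain ⟨h1, h2, h3⟩ := hB h'.2.2.2.1 k hk h'.2.2.2.2.1 h'.2.2.2.2.2
  have h1 := (InT.of_inT h1).scale hu hy
  have h2 := (InT.of_inT h2).scale hu hy
  have h3 := (InT.of_inT h3).scale hu hy
  rw [phi_one, mul_one, ← e, ← e', unit_cancel hy, unit_cancel hy] at h1 h2 h3
  exact ⟨h1, h2, h3⟩

theorem c1ts {x y z : ℍ[ℝ]} (h : Lam x y z) (hx : normSq x = 1) (hy : normSq y = 1 + tau)
    (hz : normSq z = 2 - tau) :
    InT x y z ∧ InT x z y ∧ InT y x z ∧ InT z x y ∧ InT y z x ∧ InT z y x := by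
  have hu := h.1
  have h' := h.scale (star_mem hu)
  rw [star_mul_self, hx, coe_one] at h'
  have hm1 : (((tau - 1 : ℝ)) : ℍ[ℝ]) ∈ icosians := by
    rw [coe_sub, coe_one]; exact sub_mem tau_mem (one_mem _)
  have hm2 : (((-tau : ℝ)) : ℍ[ℝ]) ∈ icosians := by
    rw [coe_neg]; exact neg_mem tau_mem
  obtain ⟨i, hi, e⟩ := exists_ut (mul_mem hm1 h'.2.1) (by
    rw [map_mul, map_mul, normSq_star, hx, hy, normSq_coe]; linear_combination (tau) * tau_sq - 0 * tau_sq)
  obtain ⟨k, hk, e'⟩ := exists_ut (mul_mem hm2 h'.2.2.1) (by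
    rw [map_mul, map_mul, normSq_star, hx, hz, normSq_coe]; linear_combination (1 - tau) * tau_sq)
  have f : star x * y = (tmul (ut i)).phi := by
    rw [phi_tmul, ← e, ← mul_assoc, ← coe_mul, show tau * (tau - 1) = 1 by linear_combination tau_sq]
    simp
  have f' : star x * z = (sub (ut k) (tmul (ut k))).phi := by
    rw [phi_sub, phi_tmul, ← e', ← mul_assoc (tau : ℍ[ℝ]), ← coe_mul, ← sub_mul, ← coe_sub,
      show -tau - tau * -tau = 1 by linear_combination tau_sq]
    simp
  have hC := (allLt_iff _ _).1 chk_tau i hi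
  simp only [chkC, bimp_eq_true, allLt_iff, frc_eq, band_eq_true, inH_iff, inHb_iff,
    phi_add, phi_one] at hC
  rw [f, f'] at h'
  obtain ⟨h1, h2, h3, h4, h5, h6⟩ := hC (by rw [phi_sub, phi_one]; exact h'.2.2.2.1) k hk
    (by rw [phi_sub]; exact h'.2.2.2.2.1) h'.2.2.2.2.2
  have h1 := (InT.of_inT h1).scale hu hx
  have h2 := (InT.of_inT h2).scale hu hx
  have h3 := (InT.of_inT h3).scale hu hx
  have h4 := (InT.of_inT h4).scale hu hx
  have h5 := (InT.of_inT h5).scale hu hx
  have h6 := (InT.of_inT h6).scale hu hx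
  rw [phi_one, mul_one, ← f, ← f', unit_cancel hx, unit_cancel hx] at h1 h2 h3 h4 h5 h6
  exact ⟨h1, h2, h3, h4, h5, h6⟩

theorem even_of_li {x : ℍ[ℝ]} (h : x ∈ leftIdeal icoH) {a b : ℤ} (e : normSq x = a + b * tau) :
    a % 2 = 0 ∧ b % 2 = 0 := by
  obtain ⟨u, hu, rfl⟩ := h
  obtain ⟨c, d, f⟩ := exists_normSq hu
  rw [map_mul, normSq_h, f] at e
  have := zt_inj (a := a) (b := b) (c := 2 * c) (d := 2 * d) (by push_cast; linarith)
  omega

theorem c_zero {x y : ℍ[ℝ]} (h : Lam x y 0) (x0 : x ≠ 0) (y0 : y ≠ 0)
    (hn : normSq x + normSq y = 4) : InT x y 0 ∧ InT x 0 y ∧ InT 0 x y := by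
  obtain ⟨a, b, e⟩ := exists_normSq h.1
  obtain ⟨c, d, f⟩ := exists_normSq h.2.1
  have b1 := normSq_bounds h.1 x0 e
  have b2 := normSq_bounds h.2.1 y0 f
  have p1 := even_of_li (x := x) (by simpa using li_add h.2.2.2.1 h.2.2.2.2.1) e
  have p2 := even_of_li (x := y) (by simpa using h.2.2.2.2.1) f
  have s := zt_inj (a := a + c) (b := b + d) (c := 4) (d := 0) (by push_cast; linarith)
  obtain ⟨rfl, rfl, rfl, rfl⟩ : a = 2 ∧ b = 0 ∧ c = 2 ∧ d = 0 := by omega
  exact c220 h (by simpa using e) (by simpa using f)

theorem triple_cases {a b c d k l : ℤ}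
    (b1 : 1 ≤ a ∧ 1 ≤ a + b ∧ 1 ≤ 2 * a - b ∧ 1 ≤ 2 * a + 3 * b)
    (b2 : 1 ≤ c ∧ 1 ≤ c + d ∧ 1 ≤ 2 * c - d ∧ 1 ≤ 2 * c + 3 * d)
    (b3 : 1 ≤ k ∧ 1 ≤ k + l ∧ 1 ≤ 2 * k - l ∧ 1 ≤ 2 * k + 3 * l)
    (s : a + c + k = 4 ∧ b + d + l = 0) :
    (a = 2 ∧ b = 0 ∧ c = 1 ∧ d = 0 ∧ k = 1 ∧ l = 0) ∨ (a = 1 ∧ b = 0 ∧ c = 2 ∧ d = 0 ∧ k = 1 ∧ l = 0) ∨
      (a = 1 ∧ b = 0 ∧ c = 1 ∧ d = 0 ∧ k = 2 ∧ l = 0) ∨ (a = 1 ∧ b = 0 ∧ c = 1 ∧ d = 1 ∧ k = 2 ∧ l = -1) ∨
      (a = 1 ∧ b = 0 ∧ c = 2 ∧ d = -1 ∧ k = 1 ∧ l = 1) ∨ (a = 1 ∧ b = 1 ∧ c = 1 ∧ d = 0 ∧ k = 2 ∧ l = -1) ∨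
      (a = 2 ∧ b = -1 ∧ c = 1 ∧ d = 0 ∧ k = 1 ∧ l = 1) ∨ (a = 1 ∧ b = 1 ∧ c = 2 ∧ d = -1 ∧ k = 1 ∧ l = 0) ∨
      (a = 2 ∧ b = -1 ∧ c = 1 ∧ d = 1 ∧ k = 1 ∧ l = 0) := by
  have h1 : (a = 1 ∧ b = 0) ∨ (a = 1 ∧ b = 1) ∨ (a = 2 ∧ b = -1) ∨ (a = 2 ∧ b = 0) := by omega
  have h2 : (c = 1 ∧ d = 0) ∨ (c = 1 ∧ d = 1) ∨ (c = 2 ∧ d = -1) ∨ (c = 2 ∧ d = 0) := by omega
  obtain ⟨rfl, rfl⟩ : k = 4 - a - c ∧ l = -b - d := by omega
  rcases h1 with ⟨rfl, rfl⟩ | ⟨rfl, rfl⟩ | ⟨rfl, rfl⟩ | ⟨rfl, rfl⟩ <;>
    rcases h2 with ⟨rfl, rfl⟩ | ⟨rfl, rfl⟩ | ⟨rfl, rfl⟩ | ⟨rfl, rfl⟩ <;>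
    first | decide | (exfalso; revert b3; decide)

theorem inT_of_lam {x y z : ℍ[ℝ]} (h : Lam x y z) (hn : normSq x + normSq y + normSq z = 4) :
    InT x y z := by
  by_cases x0 : x = 0 <;> by_cases y0 : y = 0 <;> by_cases z0 : z = 0
  · subst x0 y0 z0; simp at hn
  · subst x0 y0; exact (c400 h.swap23.swap12 (by simpa using hn)).2.2
  · subst x0 z0; exact (c400 h.swap12 (by simpa using hn)).2.1
  · subst x0; exact (c_zero h.swap12.swap23 y0 z0 (by simpa using hn)).2.2
  · subst y0 z0; exact (c400 h (by simpa using hn)).1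
  · subst y0; exact (c_zero h.swap23 x0 z0 (by simpa using hn)).2.1
  · subst z0; exact (c_zero h x0 y0 (by simpa using hn)).1
  obtain ⟨a, b, e⟩ := exists_normSq h.1
  obtain ⟨c, d, f⟩ := exists_normSq h.2.1
  obtain ⟨k, l, g⟩ := exists_normSq h.2.2.1
  have b1 := normSq_bounds h.1 x0 e
  have b2 := normSq_bounds h.2.1 y0 f
  have b3 := normSq_bounds h.2.2.1 z0 g
  have s := zt_inj (a := a + c + k) (b := b + d + l) (c := 4) (d := 0) (by push_cast; linarith)
  have := triple_cases b1 b2 b3 s
  rcases this with t | t | t | t | t | t | t | t | t <;> obtain ⟨rfl, rfl, rfl, rfl, rfl, rfl⟩ := t <;>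
    push_cast at e f g
  · exact (c211 h (by linarith) (by linarith) (by linarith)).1
  · exact (c211 h.swap12 (by linarith) (by linarith) (by linarith)).2.1
  · exact (c211 h.swap23.swap12 (by linarith) (by linarith) (by linarith)).2.2
  · exact (c1ts h (by linarith) (by linarith) (by linarith)).1
  · exact (c1ts h.swap23 (by linarith) (by linarith) (by linarith)).2.1
  · exact (c1ts h.swap12 (by linarith) (by linarith) (by linarith)).2.2.1
  · exact (c1ts h.swap12.swap23 (by linarith) (by linarith) (by linarith)).2.2.2.1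
  · exact (c1ts h.swap23.swap12 (by linarith) (by linarith) (by linarith)).2.2.2.2.1
  · exact (c1ts h.swap12.swap23.swap12 (by linarith) (by linarith) (by linarith)).2.2.2.2.2

/-- every minimal vector is a unit multiple of one of the 315 representatives -/
theorem exists_rep {r : V3} (h : IsMin r) :
    ∃ i, i < 315 ∧ ∃ u ∈ icosians, normSq u = 1 ∧ r = u • rv i := by
  obtain ⟨i, hi, u, hu, hn, e0, e1, e2⟩ := inT_of_lam (x := r 0) (y := r 1) (z := r 2)
    ⟨h.1.1 0, h.1.1 1, h.1.1 2, h.1.2⟩ (qip_self_eq_four.1 h.2)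
  refine ⟨i, hi, u, hu, hn, ?_⟩
  funext t; fin_cases t
  exacts [e0, e1, e2]

/-- the `i`-th reflection, `i < 315` -/
noncomputable def rf (i : ℕ) : Equiv.Perm icoLeech := if h : i < 315 then refl (rv i) (rv_min h) else 1

theorem rf_eq {i : ℕ} (h : i < 315) : rf i = refl (rv i) (rv_min h) := dif_pos h

theorem exists_rf {r : V3} (h : IsMin r) : ∃ i, i < 315 ∧ refl r h = rf i := by
  obtain ⟨i, hi, u, -, -, e⟩ := exists_rep h
  exact ⟨i, hi, by rw [rf_eq hi]; exact refl_eq_of_smul _ _ e⟩

theorem isIco_iff' {f : Equiv.Perm icoLeech} : IsIcoReflection f ↔ ∃ i, i < 315 ∧ f = rf i := by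
  rw [isIco_iff]
  constructor
  · rintro ⟨r, h, rfl⟩; exact exists_rf h
  · rintro ⟨i, hi, rfl⟩; exact ⟨_, _, rf_eq hi⟩

theorem rf_mem (i : ℕ) : rf i ∈ twoJ2 := by
  unfold rf; split_ifs
  exacts [refl_mem _ _, one_mem _]

theorem rf_inj (i j : ℕ) (hi : i < 315) (hj : j < 315) (e : rf i = rf j) : i = j := by
  rw [rf_eq hi, rf_eq hj] at e
  obtain ⟨u, hu⟩ := exists_smul_of_refl_eq _ _ e
  have hn : normSq u = 1 := by
    have h2 := (rv_min hi).2
    rw [hu, qip_smul_left, qip_smul_right, (rv_min hj).2, four_eq, coe_commutes, ← mul_assoc,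
      self_mul_star, ← coe_mul, coe_inj] at h2
    linarith
  have e0 : (rx i).phi = u * (rx j).phi := congrFun hu 0
  have e1 : (ry i).phi = u * (ry j).phi := congrFun hu 1
  have e2 : (rz i).phi = u * (rz j).phi := congrFun hu 2
  have k : ∀ {a b c d : Ico}, a.phi = u * c.phi → b.phi = u * d.phi → mul2 (cj a) b = mul2 (cj c) d := by
    intro a b c d h1 h2
    apply phi_inj
    rw [phi_mul2, phi_mul2, phi_cj, phi_cj, h1, h2, star_mul, mul_assoc (star c.phi), ← mul_assoc (star u),
      star_mul_self, hn]
    simp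
  have k2 : ∀ {a c : Ico}, a.phi = u * c.phi → nA a = nA c := by
    intro a c h1
    have h2 := congrArg normSq h1
    rw [map_mul, hn, one_mul, normSq_phi, normSq_phi] at h2
    exact (zt_inj (a := nA a) (b := nB a) (c := nA c) (d := nB c) (by linarith)).1
  refine inj_of_incr (fun i => key (rx i) (ry i) (rz i)) 314 (fun i hi => ?_) i j hi hj ?_
  · simpa using (allLt_iff _ _).1 chk_key i hi
  · simp only [key, frc_eq, k e0 e1, k e0 e2, k e1 e2, k2 e0, k2 e1]

theorem ncard_refl : {f : Equiv.Perm icoLeech | IsIcoReflection f}.ncard = 315 := by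
  have : {f : Equiv.Perm icoLeech | IsIcoReflection f} = rf '' (Finset.range 315 : Set ℕ) := by
    ext f
    simp only [Set.mem_ofPred_eq, isIco_iff', Set.mem_image, Finset.coe_range, Set.mem_Iio, eq_comm]
  rw [this, Set.InjOn.ncard_image, Set.ncard_coe_finset, Finset.card_range]
  intro i hi j hj
  exact rf_inj i j (by simpa using hi) (by simpa using hj)

theorem ncard_min : {r : V3 | r ∈ icoLeech ∧ qip r r = 4}.ncard = 37800 := by
  have : {r : V3 | r ∈ icoLeech ∧ qip r r = 4} = (fun p : ℕ × ℕ => (ut p.1).phi • rv p.2) ''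
      ((Finset.range 120 ×ˢ Finset.range 315 : Finset (ℕ × ℕ)) : Set (ℕ × ℕ)) := by
    ext r
    simp only [Set.mem_ofPred_eq, Set.mem_image, Finset.mem_coe, Finset.mem_product, Finset.mem_range]
    constructor
    · intro h
      obtain ⟨i, hi, u, hu, hn, e⟩ := exists_rep h
      obtain ⟨k, hk, rfl⟩ := exists_ut hu hn
      exact ⟨(k, i), ⟨hk, hi⟩, e.symm⟩
    · rintro ⟨⟨k, i⟩, ⟨hk, hi⟩, rfl⟩
      exact (rv_min hi).smul (ut_unit hk).1 (ut_unit hk).2
  rw [this, Set.InjOn.ncard_image, Set.ncard_coe_finset, Finset.card_product, Finset.card_range,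
    Finset.card_range]
  rintro ⟨k, i⟩ h1 ⟨l, j⟩ h2 e
  simp only [Finset.mem_coe, Finset.mem_product, Finset.mem_range] at h1 h2 e
  have m1 := (rv_min h1.2).smul (ut_unit h1.1).1 (ut_unit h1.1).2
  have hij : i = j := by
    apply rf_inj i j h1.2 h2.2
    rw [rf_eq h1.2, rf_eq h2.2, ← refl_eq_of_smul (rv_min h1.2) m1 rfl,
      ← refl_eq_of_smul (rv_min h2.2) m1 e]
  subst hij
  have := smul_left_injective _ (rv_min h1.2).ne_zero e
  rw [ut_inj k l h1.1 h2.1 this]

end H74.J2
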